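import Cfsg.Agent.Lib.Cert.ON.T6.R0

set_option autoImplicit false
set_option maxRecDepth 100000

namespace Cfsg.Agent.Ct.ON.L6

open Cfsg.Agent.PC

theorem rows : ∀ i < 5586, row i = 0 := by
  have h := zero_lt_zero row
  have h := zero_lt_add (a := (nat_lit 0)) (n := (nat_lit 2000)) (b := (nat_lit 2000)) h r0 rfl
  have h := zero_lt_add (a := (nat_lit 2000)) (n := (nat_lit 2000)) (b := (nat_lit 4000)) h r2000 rfl
  have h := zero_lt_add (a := (nat_lit 4000)) (n := (nat_lit 1586)) (b := (nat_lit 5586)) h r4000 rfl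
  exact h
theorem auxs : ∀ i < 68, aux i = 0 := by
  have h := zero_lt_zero aux
  have h := zero_lt_add (a := (nat_lit 0)) (n := (nat_lit 68)) (b := (nat_lit 68)) h a0 rfl
  exact h
theorem closes.{u} : ClosesT.{u} (fun j => j) rels 6 5 5586 T :=
  hc_closes (N1 := (nat_lit 5585)) rfl T_eq (by decide +kernel) rows auxs
theorem T_inv : ∀ c < 5586, ∀ j < 6, T j c < 5586 ∧ T j (T j c) = c := 
  hc_inv (inv := (fun j => j)) (N1 := (nat_lit 5585)) rfl T_eq rows

end Cfsg.Agent.Ct.ON.L6
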